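import Groth.Prelude.Def_W4bk4hartshdef114Obs
import Groth.Agent.Lib.RegLoc.Basic
import Mathlib

/-!
# An obstruction space bounds the number of equations
-/

noncomputable section

universe u

namespace GrothLib.ObsGen26

open IsLocalRing TensorProduct W4bk4hartshdef114

variable {k P : Type u} [Field k] [CommRing P] [IsLocalRing P] [IsNoetherianRing P] [Algebra k P]

theorem isSmallExt_quotient (hres : Function.Surjective (algebraMap k (ResidueField P))) (L : Ideal P)
    (hL : L ≤ maximalIdeal P) (hN : ∃ N, maximalIdeal P ^ N ≤ L) (J : Ideal P) (hJ : J ≤ maximalIdeal P)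
    (hmJ : maximalIdeal P * J ≤ L) : IsSmallExt k (P ⧸ L) (J.map (Ideal.Quotient.mk L)) := by
  haveI : Nontrivial (P ⧸ L) :=
    Ideal.Quotient.nontrivial_iff.2 fun h => (maximalIdeal.isMaximal P).ne_top (top_le_iff.1 (h ▸ hL))
  haveI : IsLocalRing (P ⧸ L) := .of_surjective' (Ideal.Quotient.mk L) Ideal.Quotient.mk_surjective
  have hunit : ∀ p : P, Ideal.Quotient.mk L p ∈ nonunits (P ⧸ L) ↔ p ∈ maximalIdeal P := fun p => by
    refine ⟨fun h => ?_, fun h hu => ?_⟩
    · by_contra hp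
      exact h ((notMem_maximalIdeal.1 hp).map _)
    · obtain ⟨v, hv⟩ := hu.exists_right_inv
      obtain ⟨v, rfl⟩ := Ideal.Quotient.mk_surjective v
      rw [← map_mul, ← map_one (Ideal.Quotient.mk L), Ideal.Quotient.eq] at hv
      have h1 := sub_mem (Ideal.mul_mem_right v _ h) (hL hv)
      rw [sub_sub_cancel] at h1
      exact (maximalIdeal.isMaximal P).ne_top (Ideal.eq_top_iff_one _ |>.2 h1)
  refine ⟨inferInstance, ?_, fun x => ?_, fun x j hx hj => ?_, fun h => ?_⟩
  · obtain ⟨N, hN⟩ := hN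
    refine (isArtinianRing_iff_isNilpotent_maximalIdeal _).2 ⟨N, ?_⟩
    have hm : maximalIdeal (P ⧸ L) = (maximalIdeal P).map (Ideal.Quotient.mk L) := by
      ext z
      obtain ⟨p, rfl⟩ := Ideal.Quotient.mk_surjective z
      rw [mem_maximalIdeal, hunit, Ideal.mem_map_iff_of_surjective _ Ideal.Quotient.mk_surjective]
      exact ⟨fun hp => ⟨p, hp, rfl⟩, fun ⟨q, hq, e⟩ => by
        simpa using add_mem hq (hL (Ideal.Quotient.eq.1 e.symm))⟩
    rw [hm, ← Ideal.map_pow, Ideal.zero_eq_bot, Ideal.map_eq_bot_iff_le_ker, Ideal.mk_ker]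
    exact hN
  · obtain ⟨p, rfl⟩ := Ideal.Quotient.mk_surjective x
    obtain ⟨c, hc⟩ := hres (residue P p)
    refine ⟨c, ?_⟩
    rw [← Ideal.Quotient.mk_algebraMap, ← map_sub, hunit, ← residue_eq_zero_iff, map_sub, ← hc,
      IsScalarTower.algebraMap_apply k P (ResidueField P)]
    exact sub_self _
  · obtain ⟨p, rfl⟩ := Ideal.Quotient.mk_surjective x
    obtain ⟨q, hq, rfl⟩ := (Ideal.mem_map_iff_of_surjective _ Ideal.Quotient.mk_surjective).1 hj
    rw [← map_mul, Ideal.Quotient.eq_zero_iff_mem]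
    exact hmJ (Ideal.mul_mem_mul ((hunit p).1 hx) hq)
  · have h1 : (1 : P ⧸ L) ∈ J.map (Ideal.Quotient.mk L) := h ▸ trivial
    obtain ⟨q, hq, e⟩ := (Ideal.mem_map_iff_of_surjective _ Ideal.Quotient.mk_surjective).1 h1
    exact (hunit q).2 (hJ hq) (e ▸ isUnit_one)

theorem isSmallExt_quot {C : Type u} [CommRing C] [Algebra k C] {J : Ideal C} (h : IsSmallExt k C J)
    (K : Ideal C) (hK : K ≤ J) : IsSmallExt k (C ⧸ K) (J.map (Ideal.Quotient.mkₐ k K)) := by
  obtain ⟨hloc, hart, hres, hmJ, hJ⟩ := h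
  haveI := hloc
  haveI := hart
  have hK' : K ≠ ⊤ := fun e => hJ (top_le_iff.1 (e ▸ hK))
  haveI : Nontrivial (C ⧸ K) := Ideal.Quotient.nontrivial_iff.2 hK'
  haveI : IsLocalRing (C ⧸ K) := .of_surjective' (Ideal.Quotient.mk K) Ideal.Quotient.mk_surjective
  refine ⟨inferInstance, inferInstance, fun x => ?_, fun x j hx hj => ?_, fun e => ?_⟩
  · obtain ⟨p, rfl⟩ := Ideal.Quotient.mk_surjective x
    obtain ⟨c, hc⟩ := hres p
    refine ⟨c, ?_⟩
    rw [← Ideal.Quotient.mk_algebraMap, ← map_sub]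
    rintro hu
    obtain ⟨v, hv⟩ := hu.exists_right_inv
    obtain ⟨v, rfl⟩ := Ideal.Quotient.mk_surjective v
    rw [← map_mul, ← map_one (Ideal.Quotient.mk K), Ideal.Quotient.eq] at hv
    have h1 := sub_mem ((maximalIdeal C).mul_mem_right v hc) (le_maximalIdeal hK' hv)
    rw [sub_sub_cancel] at h1
    exact (maximalIdeal.isMaximal C).ne_top (Ideal.eq_top_iff_one _ |>.2 h1)
  · obtain ⟨p, rfl⟩ := Ideal.Quotient.mk_surjective x
    obtain ⟨q, hq, rfl⟩ := (Ideal.mem_map_iff_of_surjective _ Ideal.Quotient.mk_surjective).1 hj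
    show Ideal.Quotient.mk K p * Ideal.Quotient.mk K q = 0
    rw [← map_mul, hmJ p q (fun hu => hx (hu.map _)) hq, map_zero]
  · have h1 : (1 : C ⧸ K) ∈ J.map (Ideal.Quotient.mkₐ k K) := e ▸ trivial
    obtain ⟨q, hq, e1⟩ := (Ideal.mem_map_iff_of_surjective _ Ideal.Quotient.mk_surjective).1 h1
    have e2 : Ideal.Quotient.mk K q = Ideal.Quotient.mk K 1 := e1.trans (map_one _).symm
    have h2 := sub_mem hq (hK (Ideal.Quotient.eq.1 e2))
    rw [sub_sub_cancel] at h2
    exact hJ ((Ideal.eq_top_iff_one _).2 h2)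

/-- An obstruction theory with values in `V` forces `I` to be generated by `dim V` elements. -/
theorem spanFinrank_le (hres : Function.Surjective (algebraMap k (ResidueField P))) (I : Ideal P)
    (hI : I ≤ maximalIdeal P ^ 2) {V : Type u} [AddCommGroup V] [Module k V] [Module.Finite k V]
    (T : ObsTheory k (P ⧸ I) V) : I.spanFinrank ≤ Module.finrank k V := by
  classical
  let m := maximalIdeal P
  have hIm : I ≤ m := hI.trans (Ideal.pow_le_self two_ne_zero)
  obtain ⟨N, hN⟩ := Ideal.exists_pow_inf_eq_pow_smul m I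
  have hAR : m ^ (N + 1) ⊓ I ≤ m * I := by
    have h := hN (N + 1) (by omega)
    simp only [smul_eq_mul, Ideal.mul_top, Nat.add_sub_cancel_left, pow_one] at h
    rw [h]
    exact Ideal.mul_mono_right inf_le_right
  let L := m * I ⊔ m ^ (N + 1)
  have hL : L ≤ m := sup_le Ideal.mul_le_left (Ideal.pow_le_self (by omega)) 
  let J : Ideal (P ⧸ L) := I.map (Ideal.Quotient.mk L)
  have hsmall : IsSmallExt k (P ⧸ L) J :=
    isSmallExt_quotient hres L hL ⟨N + 1, le_sup_right⟩ I hIm le_sup_left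
  let u : P ⧸ I →ₐ[k] (P ⧸ L) ⧸ J :=
    Ideal.Quotient.liftₐ I ((Ideal.Quotient.mkₐ k J).comp (Ideal.Quotient.mkₐ k L)) fun a ha => by
      show Ideal.Quotient.mk J (Ideal.Quotient.mk L a) = 0
      rw [Ideal.Quotient.eq_zero_iff_mem]
      exact Ideal.mem_map_of_mem _ ha
  let b := Module.finBasis k V
  let ω := T.obs (P ⧸ L) J u
  let e : V ⊗[k] ↥J ≃ₗ[k] Fin (Module.finrank k V) → ↥J :=
    (TensorProduct.equivFinsuppOfBasisLeft b).trans (Finsupp.linearEquivFunOnFinite k _ _)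
  let j := e ω
  let K : Ideal (P ⧸ L) := Ideal.span (Set.range fun i => (j i : P ⧸ L))
  have hKJ : K ≤ J := Ideal.span_le.2 (Set.range_subset_iff.2 fun i => (j i).2)
  have hsmall' := isSmallExt_quot (k := k) hsmall K hKJ
  have hω : LinearMap.lTensor V (idealToQuot k J K) ω = 0 := by
    have hω' : ω = ∑ i, b i ⊗ₜ[k] j i := by
      have h := (TensorProduct.equivFinsuppOfBasisLeft b).symm_apply_apply ω
      rw [TensorProduct.equivFinsuppOfBasisLeft_symm_apply, Finsupp.sum_fintype _ _ fun i => TensorProduct.tmul_zero _ _] at h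
      exact h.symm
    rw [hω', map_sum]
    refine Finset.sum_eq_zero fun i _ => ?_
    rw [LinearMap.lTensor_tmul]
    have : idealToQuot k J K (j i) = 0 :=
      Subtype.ext (Ideal.Quotient.eq_zero_iff_mem.2 (Ideal.subset_span ⟨i, rfl⟩))
    rw [this, TensorProduct.tmul_zero]
  rw [← T.obs_quot _ J K hsmall hKJ u] at hω
  obtain ⟨u', hu'⟩ := (T.obs_eq_zero_iff _ _ hsmall' _).1 hω
  let π : P →ₐ[k] (P ⧸ L) ⧸ K := (Ideal.Quotient.mkₐ k K).comp (Ideal.Quotient.mkₐ k L)
  let h : P →ₐ[k] (P ⧸ L) ⧸ K := u'.comp (Ideal.Quotient.mkₐ k I)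
  let J' := J.map (Ideal.Quotient.mkₐ k K)
  have hd : ∀ a, π a - h a ∈ J' := fun a => by
    rw [← Ideal.Quotient.eq]
    refine Eq.trans ?_ (AlgHom.congr_fun hu' (Ideal.Quotient.mk I a)).symm
    exact (DoubleQuot.quotQuotEquivQuotOfLE_symm_mk (Ideal.Quotient.mk L a) hKJ).symm
  have hJm : ∀ a ∈ m, ∀ z ∈ J', π a * z = 0 := fun a ha z hz => by
    refine hsmall'.2.2.2.1 _ _ ?_ hz
    have h1 : Ideal.Quotient.mk L a ∈ nonunits (P ⧸ L) := by
      rintro hu
      obtain ⟨v, hv⟩ := hu.exists_right_inv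
      obtain ⟨v, rfl⟩ := Ideal.Quotient.mk_surjective v
      rw [← map_mul, ← map_one (Ideal.Quotient.mk L), Ideal.Quotient.eq] at hv
      have h1 := sub_mem (m.mul_mem_right v ha) (hL hv)
      rw [sub_sub_cancel] at h1
      exact (maximalIdeal.isMaximal P).ne_top (Ideal.eq_top_iff_one _ |>.2 h1)
    rintro hu
    obtain ⟨v, hv⟩ := hu.exists_right_inv
    obtain ⟨v, rfl⟩ := Ideal.Quotient.mk_surjective v
    have hv' : Ideal.Quotient.mk K (Ideal.Quotient.mk L a * v) = Ideal.Quotient.mk K 1 := by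
      rw [map_mul, map_one]; exact hv
    haveI := hsmall.1
    have h2 := sub_mem ((maximalIdeal (P ⧸ L)).mul_mem_right v h1)
      (le_maximalIdeal (fun e => hsmall.2.2.2.2 (top_le_iff.1 (e ▸ hKJ))) (Ideal.Quotient.eq.1 hv'))
    rw [sub_sub_cancel] at h2
    exact (maximalIdeal.isMaximal _).ne_top (Ideal.eq_top_iff_one _ |>.2 h2)
  have hJJ : ∀ z ∈ J', ∀ w ∈ J', z * w = 0 := fun z hz w hw => by
    obtain ⟨y, hy, rfl⟩ := (Ideal.mem_map_iff_of_surjective _ Ideal.Quotient.mk_surjective).1 hz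
    obtain ⟨a, ha, rfl⟩ := (Ideal.mem_map_iff_of_surjective _ Ideal.Quotient.mk_surjective).1 hy
    exact hJm a (hIm ha) w hw
  have hπh : ∀ a ∈ m ^ 2, π a = h a := fun a ha => by
    rw [sq] at ha
    refine Submodule.mul_induction_on ha (fun x hx y hy => ?_) fun x y hx hy => by rw [map_add, map_add, hx, hy]
    rw [map_mul, map_mul]
    linear_combination hJm x hx _ (hd y) + hJm y hy _ (hd x) - hJJ _ (hd x) _ (hd y)
  have hIK : ∀ f ∈ I, Ideal.Quotient.mk L f ∈ K := fun f hf => by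
    rw [← Ideal.Quotient.eq_zero_iff_mem]
    show π f = 0
    rw [hπh f (hI hf)]
    show u' (Ideal.Quotient.mk I f) = 0
    rw [Ideal.Quotient.eq_zero_iff_mem.2 hf, map_zero]
  choose g hg hgj using fun i => (Ideal.mem_map_iff_of_surjective (Ideal.Quotient.mk L)
    Ideal.Quotient.mk_surjective).1 (j i).2
  have hle : I ≤ Ideal.span (Set.range g) ⊔ m * I := fun f hf => by
    have h1 := hIK f hf
    rw [show K = (Ideal.span (Set.range g)).map (Ideal.Quotient.mk L) by
      rw [Ideal.map_span, ← Set.range_comp]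
      exact congrArg Ideal.span (congrArg Set.range (funext fun i => (hgj i).symm))] at h1
    obtain ⟨a, ha, ha'⟩ := (Ideal.mem_map_iff_of_surjective _ Ideal.Quotient.mk_surjective).1 h1
    have h2 : f - a ∈ L := Ideal.Quotient.eq.1 ha'.symm
    have haI : a ∈ I := Ideal.span_le.2 (Set.range_subset_iff.2 hg) ha
    obtain ⟨x, hx, y, hy, hxy⟩ := Submodule.mem_sup.1 h2
    have hyI : y ∈ m ^ (N + 1) ⊓ I := by
      refine ⟨hy, ?_⟩
      rw [show y = (f - a) - x by rw [← hxy]; ring]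
      exact sub_mem (sub_mem hf haI) (Ideal.mul_le_right hx)
    rw [show f = a + (x + y) by rw [hxy]; ring]
    exact add_mem (Ideal.mem_sup_left ha) (Ideal.mem_sup_right (add_mem hx (hAR hyI)))
  refine GrothLib.RegLoc.spanFinrank_le_of_span g (le_antisymm (Ideal.span_le.2 (Set.range_subset_iff.2 hg)) ?_)
  exact Submodule.le_of_le_smul_of_le_jacobson_bot (IsNoetherian.noetherian I)
    (maximalIdeal_le_jacobson _) (by rw [smul_eq_mul]; exact hle)

end GrothLib.ObsGen26
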